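import Groth.Agent.L16.GGMult.Push
import Groth.Agent.L16.MulSurj.Main
import Groth.Agent.L22.Ribbon.Basic
import Groth.Agent.L22.VeryAmple.Over
import Groth.Agent.L02.NumDim.Lower

/-!
# Multiplication of sections of powers of a globally generated invertible module
-/

set_option autoImplicit false
set_option linter.style.haveILetI false
set_option linter.unusedSectionVars false
set_option backward.isDefEq.respectTransparency false
set_option backward.isDefEq.respectTransparency.types false

universe u

open CategoryTheory CategoryTheory.Limits AlgebraicGeometry TopologicalSpace Opposite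
open Groth.L00.Tensor (tensorIso tensorComm tensorAssoc tensorUnitLeft tensorPowAdd tensorPowIso)
open Groth.L22.Ribbon (hhEquiv)

noncomputable section

namespace Groth.L16.GGMult

variable (k : Type u) [Field k]

/-- `O(1)` is globally generated. -/
theorem gg_O1 (n : ℕ) : Curv2.IsGloballyGenerated (Groth.L18.PUP.O1 n k) := by
  haveI := Groth.L16.ProjSpace.isProper_toSpec n k
  haveI : IsLocallyNoetherian (CohB1.ProjSpace n k) :=
    LocallyOfFiniteType.isLocallyNoetherian (CohB1.ProjSpace.toSpec n k)
  have hF : Coh.IsCoh (Coh.structureModule (CohB1.ProjSpace n k)) := Groth.L16.CohClosedPush.isCoh_structure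
  have hreg : Groth.L22.Reg.Regular (Coh.structureModule (CohB1.ProjSpace n k)) 0 := fun q hq =>
    (hhEquiv k (X := CohB1.ProjSpace n k) (tensorUnitLeft (Twist.twistProjSpace n k (0 - (q : ℤ)))) q).toEquiv.subsingleton_congr.2
      (Groth.L16.ProjSpace.subsingleton_HH_twist n k _ q (by omega) (by omega))
  exact Groth.L18.Ample.isGloballyGenerated_of_iso (tensorUnitLeft _) (hreg.isGloballyGenerated hF (zero_le_one (α := ℤ)))

variable {k} {X : Scheme.{u}}

/-- From one step to all steps. -/
theorem sur_pow_of_step {F M : X.Modules} {a₀ : ℕ}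
    (h : ∀ a, a₀ ≤ a → Sur (CohB1.tensorMod F (CohB1.tensorPow M a)) M) :
    ∀ b : ℕ, 0 < b → ∀ a, a₀ ≤ a → Sur (CohB1.tensorMod F (CohB1.tensorPow M a)) (CohB1.tensorPow M b) := by
  intro b hb
  induction b, hb using Nat.le_induction with
  | base => exact fun a ha => (h a ha).of_iso (Iso.refl _) (tensorUnitLeft M).symm
  | succ b hb ih =>
    intro a ha
    exact (ih a ha).assoc ((h (a + b) (ha.trans (Nat.le_add_right a b))).of_iso
      ((tensorIso (Iso.refl F) (tensorPowAdd M a b).symm) ≪≫ (tensorAssoc F _ _).symm) (Iso.refl M))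

variable [X.Over (Spec (CommRingCat.of k))] [IsProper (X ↘ Spec (CommRingCat.of k))] [IsIntegral X]

include k in
/-- Multiplication of sections is eventually surjective for globally generated invertible modules. -/
theorem exists_sur_pow {M : X.Modules} (hM : PicF.IsInvertible M) (hgg : Curv2.IsGloballyGenerated M)
    (F : X.Modules) (hF : Coh.IsCoh F) :
    ∃ a₀ : ℕ, 0 < a₀ ∧ ∀ a b : ℕ, a₀ ≤ a → a₀ ≤ b →
      Sur (CohB1.tensorMod F (CohB1.tensorPow M a)) (CohB1.tensorPow M b) := by
  obtain ⟨N, φ, hφ, ⟨τ⟩⟩ := Groth.L02.NumDim.exists_morphism k hM hgg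
  haveI := Groth.L16.ProjSpace.isProper_toSpec N k
  haveI : IsProper φ := by
    haveI : IsProper (φ ≫ CohB1.ProjSpace.toSpec N k) := by rw [hφ]; infer_instance
    exact IsProper.of_comp φ (CohB1.ProjSpace.toSpec N k)
  have hL : PicF.IsInvertible (Groth.L18.PUP.O1 N k) := Groth.L16.ProjTwist.isInvertible_twistProjSpace N k 1
  obtain ⟨σ, hσ⟩ := @Groth.L16.MulSurj.exists_epi_basis k _ (CohB1.ProjSpace N k) inferInstance
    (Groth.L18.PUP.O1 N k) (Groth.L22.PDual.finite_HH (Groth.L16.ProperFinite.isCoh_of_isInvertible hL) 0) (gg_O1 k N)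
  haveI := hσ
  obtain ⟨a₀, h⟩ := exists_sur φ σ (CohB1.ProjSpace.toSpec N k) hL (Groth.L22.VeryAmple.isAmple_O1 N k) F hF
  have step : ∀ a, a₀ ≤ a → Sur (CohB1.tensorMod F (CohB1.tensorPow M a)) M := fun a ha =>
    ((h a ha).of_iso τ (tensorIso (Groth.L18.Ample.pullPow φ _ a ≪≫ tensorPowIso τ a) (Iso.refl F) ≪≫
      tensorComm _ _)).comm
  exact ⟨a₀ + 1, a₀.succ_pos, fun a b ha hb => sur_pow_of_step step b (by omega) a (by omega)⟩

end Groth.L16.GGMult
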