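import Groth.Agent.L16.GGMult.Sur
import Groth.Agent.L16.MulSurj.Kernel
import Groth.Agent.L16.Rees.RelVanish
import Groth.Agent.L16.Exist.PushPull
import Groth.Agent.L16.Existence.Lemmas
import Groth.Agent.L15.Ref.Tensor
import Groth.Agent.L17.ProjFormula
import Groth.Agent.L18.AmplePull

/-!
# Multiplication by the sections pulled back along a proper morphism
-/

set_option autoImplicit false
set_option linter.style.haveILetI false
set_option linter.unusedSectionVars false
set_option backward.isDefEq.respectTransparency false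

universe u

open CategoryTheory CategoryTheory.Limits AlgebraicGeometry TopologicalSpace Opposite MonoidalCategory
open Groth.L00.Tensor (tensorMap tensorMap_id tensorMap_comp tensorIso tensorComm tensorAssoc tensorRightF)
open Groth.L16.CohLinear (hmap hmap_comp exact_hmap_delta)
open Groth.L21.RR (e0 e0_hmap)
open Groth.L17.ClosedPush (θ θ_natural)

noncomputable section

namespace Groth.L16.GGMult

variable {X Y : Scheme.{u}}

/-- A map factoring through `ψ ⊗ G` lands in the products. -/
theorem app_mem_prodRange {L G : X.Modules} (ψ : Coh.structureModule X ⟶ L)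
    (v : Γ((tensorRightF G).obj (Coh.structureModule X), ⊤)) :
    (tensorMap ψ (𝟙 G)).app ⊤ v ∈ Groth.L22.Reg.prodRange L G := by
  obtain ⟨z, rfl⟩ := (e0 ((tensorRightF G).obj (Coh.structureModule X))).surjective v
  have h := (Groth.L22.Reg.mem_prodH0 _).1 (Groth.L16.MulSurj.tensorMap_mem ψ z)
  erw [e0_hmap] at h
  exact h

theorem app_finset_sum {M N : X.Modules} {ι : Type*} (s : Finset ι) (f : ι → (M ⟶ N)) (z : Coh.HH X M 0) :
    e0 N (hmap (∑ j ∈ s, f j) 0 z) = ∑ j ∈ s, (f j).app ⊤ (e0 M z) := by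
  rw [Groth.L16.MulSurj.hmap_finset_sum, map_sum]
  exact Finset.sum_congr rfl fun j _ => e0_hmap _ _

variable (φ : X ⟶ Y) {L : Y.Modules} {r : ℕ} (σ : Fin r → (Coh.structureModule Y ⟶ L))

/-- The sections coming from `σ ⊗ φ_* F` are products after applying the projection morphism. -/
theorem θ_app_mem (F : X.Modules) (v : Γ((tensorRightF ((Scheme.Modules.pushforward φ).obj F)).obj
      (Coh.structureModule Y), ⊤)) (j : Fin r) :
    ((θ φ F L).app ⊤ ((tensorMap (σ j) (𝟙 ((Scheme.Modules.pushforward φ).obj F))).app ⊤ v) :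
        Γ(CohB1.tensorMod ((Scheme.Modules.pullback φ).obj L) F, ⊤)) ∈
      Groth.L22.Reg.prodRange ((Scheme.Modules.pullback φ).obj L) F := by
  let e := Groth.L29.LocFree.pullbackUnitIso φ
  have hn : tensorMap (σ j) (𝟙 ((Scheme.Modules.pushforward φ).obj F)) ≫ θ φ F L =
      θ φ F (Coh.structureModule Y) ≫ (Scheme.Modules.pushforward φ).map
        (tensorMap ((Scheme.Modules.pullback φ).map (σ j)) (𝟙 F)) := θ_natural φ F (σ j)
  have h1 := congrArg (fun q => q.app ⊤ v) hn
  refine Eq.mpr (congrArg (· ∈ _) h1) ?_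
  let w : Γ(CohB1.tensorMod ((Scheme.Modules.pullback φ).obj (Coh.structureModule Y)) F, ⊤) :=
    (θ φ F (Coh.structureModule Y)).app ⊤ v
  show (tensorMap ((Scheme.Modules.pullback φ).map (σ j)) (𝟙 F)).app ⊤ w ∈ _
  have hf : tensorMap ((Scheme.Modules.pullback φ).map (σ j)) (𝟙 F) =
      tensorMap e.hom (𝟙 F) ≫ tensorMap (e.inv ≫ (Scheme.Modules.pullback φ).map (σ j)) (𝟙 F) := by
    rw [← tensorMap_comp, Category.id_comp, Iso.hom_inv_id_assoc]
  rw [hf, Scheme.Modules.Hom.comp_app, ConcreteCategory.comp_apply]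
  exact app_mem_prodRange _ _

/-- Surjectivity of multiplication by pulled back sections, from a vanishing on the base. -/
theorem sur_of_surjective (F : X.Modules) (hL : PicF.IsInvertible L)
    (hs : Function.Surjective (hmap ((tensorRightF ((Scheme.Modules.pushforward φ).obj F)).map (Sigma.desc σ)) 0)) :
    Sur ((Scheme.Modules.pullback φ).obj L) F := by
  let G := (Scheme.Modules.pushforward φ).obj F
  haveI := Groth.L17.ProjFormula.isIso_θ φ L F (Groth.L16.Existence.isFinLocFree_of_isInvertible hL)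
  refine sur_of_mem fun a => ?_
  obtain ⟨b, hb⟩ := surjective_app (asIso (θ φ F L)) a
  rw [← hb]
  obtain ⟨z, rfl⟩ := (e0 ((tensorRightF G).obj L)).surjective b
  obtain ⟨w, rfl⟩ := hs z
  obtain ⟨pr, hid, -⟩ := Groth.L03.ShStab.QuadricCoh.id_sigma (fun _ : Fin r => Coh.structureModule Y)
  haveI : PreservesColimitsOfSize.{u, u} (tensorRightF G) := Groth.L00.Tensor.preservesColimits_tensorRightF _
  haveI := preservesBinaryBiproducts_of_preservesBinaryCoproducts (tensorRightF G)
  haveI : (tensorRightF G).Additive := Functor.additive_of_preservesBinaryBiproducts _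
  have hd : (tensorRightF G).map (Sigma.desc σ) =
      ∑ j, (tensorRightF G).map (pr j) ≫ (tensorRightF G).map (σ j) := by
    simp only [← Functor.map_comp, ← Functor.map_sum]
    congr 1
    conv_lhs => rw [← Category.id_comp (Sigma.desc σ), hid, Preadditive.sum_comp]
    simp
  rw [hd, app_finset_sum, map_sum]
  refine sum_mem fun j _ => ?_
  rw [Scheme.Modules.Hom.comp_app, ConcreteCategory.comp_apply]
  exact θ_app_mem φ σ F _ j

/-- For large twists by an ample module, the sections of the pullback multiply surjectively. -/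
theorem exists_sur {A : Type u} [CommRing A] [IsNoetherianRing A] (q : Y ⟶ Spec (CommRingCat.of A)) [IsProper q]
    [IsProper φ] (hL : PicF.IsInvertible L) (hamp : CohB1.IsAmple L) [Epi (Sigma.desc σ)] (F : X.Modules) (hF : Coh.IsCoh F) :
    ∃ a₀ : ℕ, ∀ a, a₀ ≤ a → Sur ((Scheme.Modules.pullback φ).obj L)
      (CohB1.tensorMod ((Scheme.Modules.pullback φ).obj (CohB1.tensorPow L a)) F) := by
  haveI : IsLocallyNoetherian Y := LocallyOfFiniteType.isLocallyNoetherian q
  let G := (Scheme.Modules.pushforward φ).obj F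
  have hG : Coh.IsCoh G := Groth.L16.Exist.isCoh_pushforward φ hF
  have hLc : Coh.IsCoh L := Groth.L16.ProperFinite.isCoh_of_isInvertible hL
  have hO := Groth.L16.Rees.RelVanish.isCoh_structureModule Y
  have hSrc : Coh.IsCoh (CohB1.tensorMod (∐ fun _ : Fin r => Coh.structureModule Y) G) :=
    Groth.L15.Ref.isCoh_tensorMod (Groth.L16.Existence.isCoh_sigma _ fun _ => hO) hG
  haveI : Coh.IsQCoh ((tensorRightF G).obj L) := (Groth.L15.Ref.isCoh_tensorMod hLc hG).1
  let f := (tensorRightF G).map (Sigma.desc σ)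
  have hK : Coh.IsCoh (kernel f) := Groth.L16.CohSupport.isCoh_kernel hSrc f
  obtain ⟨a₀, ha₀⟩ := Groth.L16.Rees.RelVanish.exists_vanishing q hamp hK
  refine ⟨a₀, fun a ha => sur_of_surjective φ σ _ hL ?_⟩
  let P := CohB1.tensorPow L a
  haveI : Epi f := by
    haveI : PreservesColimitsOfSize.{u, u} (tensorRightF G) := Groth.L00.Tensor.preservesColimits_tensorRightF _
    haveI : PreservesFiniteColimits (tensorRightF G) := PreservesColimitsOfSize.preservesFiniteColimits _
    exact (tensorRightF G).map_epi _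
  let S := ShortComplex.mk (kernel.ι f) f (kernel.condition _)
  have hS : S.ShortExact :=
    { exact := S.exact_of_f_is_kernel (kernelIsKernel f)
      mono_f := inferInstanceAs (Mono (kernel.ι _))
      epi_g := inferInstanceAs (Epi f) }
  have hP : FlatMod.IsFlat P := Groth.L03.Euler.isFlat_of_isInvertible
    (Groth.L18.Ample.isInvertible_tensorPow hL a)
  have hsurj : Function.Surjective (hmap ((tensorRightF P).map f) 0) := fun z =>
    (exact_hmap_delta (Groth.L16.MulSurj.shortExact_tensorRight hP hS) 0 z).1 ((ha₀ a ha 1 one_pos).elim _ _)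
  -- `φ_* F ⊗ L^a ≅ φ_* (φ^* L^a ⊗ F)`
  haveI := Groth.L17.ProjFormula.isIso_θ φ P F
    (Groth.L16.Existence.isFinLocFree_of_isInvertible (Groth.L18.Ample.isInvertible_tensorPow hL a))
  let ε : CohB1.tensorMod G P ≅ (Scheme.Modules.pushforward φ).obj
      (CohB1.tensorMod ((Scheme.Modules.pullback φ).obj P) F) := tensorComm G P ≪≫ asIso (θ φ F P)
  let B := fun (Z : Y.Modules) => tensorAssoc Z G P ≪≫ tensorIso (Iso.refl Z) ε
  have hB : (tensorRightF P).map f ≫ (B L).hom = (B _).hom ≫
      (tensorRightF ((Scheme.Modules.pushforward φ).obj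
        (CohB1.tensorMod ((Scheme.Modules.pullback φ).obj P) F))).map (Sigma.desc σ) := by
    show tensorMap (tensorMap (Sigma.desc σ) (𝟙 G)) (𝟙 P) ≫ (tensorAssoc L G P).hom ≫ tensorMap (𝟙 L) ε.hom =
      ((tensorAssoc _ G P).hom ≫ tensorMap (𝟙 _) ε.hom) ≫ tensorMap (Sigma.desc σ) (𝟙 _)
    rw [reassoc_of% Groth.L29.DC.Assoc.assoc_natural (Sigma.desc σ) (𝟙 G) (𝟙 P), tensorMap_id,
      Category.assoc, ← tensorMap_comp, ← tensorMap_comp, Category.comp_id, Category.id_comp,
      Category.id_comp, Category.comp_id]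
  intro z
  obtain ⟨w, hw⟩ := hsurj (hmap (B L).inv 0 z)
  refine ⟨hmap (B _).hom 0 w, ?_⟩
  refine (hmap_comp _ _ 0 w).symm.trans ((congrArg (fun m => hmap m 0 w) hB.symm).trans ?_)
  refine (hmap_comp _ _ 0 w).trans ((congrArg (hmap (B L).hom 0) hw).trans ?_)
  refine (hmap_comp _ _ 0 z).symm.trans ((congrArg (fun m => hmap m 0 z) (B L).inv_hom_id).trans ?_)
  exact Groth.L16.CohLinear.hmap_id 0 z

end Groth.L16.GGMult
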