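import Groth.Agent.L22.Reg.Mult
import Groth.Agent.L12.GenusZero.Square

/-!
# Surjectivity of multiplication of global sections: formal properties
-/

set_option autoImplicit false
set_option linter.style.haveILetI false
set_option linter.unusedSectionVars false
set_option backward.isDefEq.respectTransparency false

universe u

open CategoryTheory CategoryTheory.Limits AlgebraicGeometry TopologicalSpace Opposite MonoidalCategory
open Groth.L00.Tensor (tensorMap tensorIso tensorComm tensorAssoc pre PX shf)
open Groth.L22.Reg (prodRange tens_mem_prodRange)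
open Groth.L18.GenLoc (tens)

noncomputable section

namespace Groth.L16.GGMult

variable {X : Scheme.{u}}

/-- Multiplication of global sections is surjective. -/
def Sur (G N : X.Modules) : Prop :=
  Function.Surjective ((toSheafify (Opens.grothendieckTopology X) (CohB1.tensorPre G N).presheaf).app (op ⊤))

theorem Sur.mem {G N : X.Modules} (h : Sur G N) (a : Γ(CohB1.tensorMod G N, ⊤)) : a ∈ prodRange G N :=
  h a

/-- An additive map sending elementary products into a subgroup sends all products there. -/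
theorem prodRange_le {G N : X.Modules} {A : Type*} [AddCommGroup A] (S : AddSubgroup A)
    (f : Γ(CohB1.tensorMod G N, ⊤) →+ A) (h : ∀ g n, f (tens G N ⊤ g n) ∈ S)
    {a : Γ(CohB1.tensorMod G N, ⊤)} (ha : a ∈ prodRange G N) : f a ∈ S := by
  obtain ⟨t, rfl⟩ := ha
  induction (t : TensorProduct (X.sheaf.obj.obj (op ⊤)) ((pre G).obj (op ⊤)) ((pre N).obj (op ⊤)))
    using TensorProduct.induction_on with
  | zero =>
    convert S.zero_mem
    exact (congrArg f (map_zero _)).trans (map_zero f)
  | tmul x y => exact h x y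
  | add x y hx hy =>
    convert S.add_mem hx hy
    exact (congrArg f (map_add _ x y)).trans (map_add f _ _)

theorem sur_of_mem {G N : X.Modules} (h : ∀ a, a ∈ prodRange G N) : Sur G N := fun a => h a

theorem surjective_app {A B : X.Modules} (e : A ≅ B) : Function.Surjective (e.hom.app ⊤) :=
  ((ConcreteCategory.isIso_iff_bijective _).1
    (Scheme.Modules.Hom.isIso_iff_isIso_app.1 (inferInstance : IsIso e.hom) ⊤)).2

theorem Sur.of_iso {G G' N N' : X.Modules} (h : Sur G N) (eG : G ≅ G') (eN : N ≅ N') : Sur G' N' :=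
  sur_of_mem fun a => by
    obtain ⟨b, rfl⟩ := surjective_app (tensorIso eG eN) a
    refine prodRange_le _ ((tensorIso eG eN).hom.app ⊤).hom (fun g n => ?_) (h.mem b)
    show (tensorMap eG.hom eN.hom).app ⊤ (tens G N ⊤ g n) ∈ _
    rw [Groth.L18.Ample.tensorMap_tens]
    exact tens_mem_prodRange _ _ _ _

theorem tensorComm_tens (L M : X.Modules) (l : Γ(L, ⊤)) (m : Γ(M, ⊤)) :
    (tensorComm L M).hom.app ⊤ (tens L M ⊤ l m) = tens M L ⊤ m l :=
  Groth.L12.GenusZero.unit_nat (β_ (pre L) (pre M)).hom ⊤
    ((l : (pre L).obj (op ⊤)) ⊗ₜ[X.sheaf.obj.obj (op ⊤)] (m : (pre M).obj (op ⊤)))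

theorem Sur.comm {G N : X.Modules} (h : Sur G N) : Sur N G :=
  sur_of_mem fun a => by
    obtain ⟨b, rfl⟩ := surjective_app (tensorComm G N) a
    refine prodRange_le _ ((tensorComm G N).hom.app ⊤).hom (fun g n => ?_) (h.mem b)
    show (tensorComm G N).hom.app ⊤ (tens G N ⊤ g n) ∈ _
    rw [tensorComm_tens]
    exact tens_mem_prodRange _ _ _ _

/-- Products of products. -/
theorem Sur.assoc {G A B : X.Modules} (h : Sur G A) (h' : Sur (CohB1.tensorMod G A) B) :
    Sur G (CohB1.tensorMod A B) :=
  sur_of_mem fun a => by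
    obtain ⟨b, rfl⟩ := surjective_app (tensorAssoc G A B) a
    refine prodRange_le _ ((tensorAssoc G A B).hom.app ⊤).hom (fun c n => ?_) (h'.mem b)
    let tn : Γ(CohB1.tensorMod G A, ⊤) →+ Γ(CohB1.tensorMod (CohB1.tensorMod G A) B, ⊤) :=
      AddMonoidHom.mk' (fun c => tens (CohB1.tensorMod G A) B ⊤ c n)
        (fun c c' => (congrArg _ (TensorProduct.add_tmul _ _ _)).trans (map_add _ _ _))
    refine prodRange_le _ (((tensorAssoc G A B).hom.app ⊤).hom.comp tn) (fun g m => ?_) (h.mem c)
    show (tensorAssoc G A B).hom.app ⊤ (tens (CohB1.tensorMod G A) B ⊤ (tens G A ⊤ g m) n) ∈ _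
    rw [Groth.L12.GenusZero.tensorAssoc_tens]
    exact tens_mem_prodRange _ _ _ _

end Groth.L16.GGMult
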